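import Cfsg.Agent.Lib.CharsMore.U34.Chars
import Cfsg.Agent.Lib.CharApps.AbelianSylow
import Cfsg.Agent.Lib.CharApps.Galois

/-!
# Two edges of the degree graph of a simple group of order `6048`
-/

set_option linter.unusedSectionVars false
set_option linter.style.haveILetI false

namespace CfsgLib.CharsMore.U33

open Cfsg CfsgLib.Chars Finset
open scoped ComplexConjugate

theorem signed_deg_fin : ∀ d : Fin 78, (d : ℕ) ∣ 6048 → (d : ℕ) ≠ 1 →
    ((d : ℕ) % 7 = 1 → (d : ℕ) = 8 ∨ (d : ℕ) = 36) ∧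
    ((d : ℕ) % 7 = 6 → (d : ℕ) = 6 ∨ (d : ℕ) = 27 ∨ (d : ℕ) = 48) ∧
    ((d : ℕ) % 7 = 3 → (d : ℕ) = 3 ∨ (d : ℕ) = 24) ∧
    ((d : ℕ) % 7 = 4 → (d : ℕ) = 4 ∨ (d : ℕ) = 18 ∨ (d : ℕ) = 32) := by
  decide +kernel

theorem seven_deg_fin : ∀ d : Fin 78, (d : ℕ) ∣ 6048 → (d : ℕ) % 7 = 0 → (d : ℕ) % 2 = 1 →
    (d : ℕ) = 7 ∨ (d : ℕ) = 21 ∨ (d : ℕ) = 63 := by
  decide +kernel

theorem involution_values : ∀ i : Fin 16, ∀ j : Fin 55,
    216 + 27 * ((i : ℤ) - 8) ^ 2 - 8 * ((j : ℤ) - 27) ^ 2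
      + 12 * (1 + ((i : ℤ) - 8) - ((j : ℤ) - 27)) ^ 2 ≠ 0 := by
  decide +kernel

/-- The solutions of the degree equation. -/
theorem deg_cases {a b d : ℕ} {s u e : ℤ} (hs : s = 1 ∨ s = -1) (hu : u = 1 ∨ u = -1)
    (he : e = 1 ∨ e = -1) (ha : a < 78) (hb : b < 78) (hd : d < 78) (ha1 : a ≠ 1) (hb1 : b ≠ 1)
    (hadvd : a ∣ 6048) (hbdvd : b ∣ 6048) (hddvd : d ∣ 6048)
    (hsa : (a : ℤ) ≡ s [ZMOD 7]) (hub : (b : ℤ) ≡ u [ZMOD 7]) (hed : (d : ℤ) ≡ e * 3 [ZMOD 7])
    (hrel : e * d = 1 + s * a + u * b) (hsq : 1 + a * a + b * b + 2 * (d * d) ≤ 6048) :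
    ((a = 6 ∧ b = 8 ∨ a = 8 ∧ b = 6) ∧ d = 3) ∨ ((a = 6 ∧ b = 27 ∨ a = 27 ∧ b = 6) ∧ d = 32) ∨
      (((a = 8 ∧ s = 1 ∧ b = 27 ∧ u = -1) ∨ (a = 27 ∧ s = -1 ∧ b = 8 ∧ u = 1)) ∧ d = 18 ∧ e = -1) := by
  have hA := signed_deg_fin ⟨a, ha⟩ hadvd ha1
  have hB := signed_deg_fin ⟨b, hb⟩ hbdvd hb1
  have hd1 : d ≠ 1 := by
    rintro rfl
    unfold Int.ModEq at hed
    omega
  have hD := signed_deg_fin ⟨d, hd⟩ hddvd hd1
  simp only at hA hB hD
  unfold Int.ModEq at hsa hub hed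
  rcases hs with rfl | rfl <;> rcases hu with rfl | rfl <;> rcases he with rfl | rfl
  all_goals
    first
      | have hA' := hA.1 (by omega)
      | have hA' := hA.2.1 (by omega)
    first
      | have hB' := hB.1 (by omega)
      | have hB' := hB.2.1 (by omega)
    first
      | have hD' := hD.2.2.1 (by omega)
      | have hD' := hD.2.2.2 (by omega)
    rcases hA' with rfl | rfl | rfl <;> rcases hB' with rfl | rfl | rfl <;>
      rcases hD' with rfl | rfl | rfl <;> omega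

variable {G : Type*} [Group G] [Finite G] [IsSimpleGroup G]

theorem two_edges (hG : Nat.card G = 6048)
    (hC : ∀ x : G, orderOf x = 7 → Nat.card (Subgroup.centralizer ({x} : Set G)) = 7)
    {g₈ : G} (hg8 : orderOf g₈ = 8) (hC8 : Nat.card (Subgroup.centralizer ({g₈} : Set G)) = 8) :
    (∃ χ : IrrCharacter G, 6 ∣ charDegree (χ : G → ℂ)) ∧
      (∃ χ : IrrCharacter G, 14 ∣ charDegree (χ : G → ℂ)) := by
  classical
  haveI : Fact (Nat.Prime 7) := ⟨by norm_num⟩
  haveI : Fact (Nat.Prime 2) := ⟨Nat.prime_two⟩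
  haveI := Fintype.ofFinite G
  haveI := irrFintype G
  obtain ⟨P⟩ : Nonempty (Sylow 7 G) := inferInstance
  have hP : Nat.card (P : Subgroup G) = 7 := by
    obtain ⟨k, hk⟩ := P.2.exists_card_eq
    have h1 : 7 ^ k ∣ 6048 := hk ▸ hG ▸ Subgroup.card_subgroup_dvd_card _
    have h2 : 7 ∣ Nat.card (P : Subgroup G) := P.dvd_card_of_dvd_card (by rw [hG]; norm_num)
    rw [hk] at h2
    rcases k with _ | _ | k
    · norm_num at h2
    · exact hk.trans (pow_one 7)
    · exact absurd ((dvd_trans ⟨7 ^ k, by ring⟩ h1 : 7 ^ 2 ∣ 6048)) (by norm_num)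
  obtain ⟨x₀, hx₀⟩ := exists_prime_orderOf_dvd_card' 7 (show 7 ∣ Nat.card (P : Subgroup G) by rw [hP])
  have hx₀' : orderOf (x₀ : G) = 7 := by rw [Subgroup.orderOf_coe, hx₀]
  have hx1 : (x₀ : G) ≠ 1 := fun h => by rw [h, orderOf_one] at hx₀'; omega
  have hcen : Subgroup.centralizer ((P : Subgroup G) : Set G) = P := by
    rw [← Brauer43.centralizer_singleton_eq hP x₀.2 hx1]
    refine (Subgroup.eq_of_le_of_card_ge (fun y hy => ?_) (by rw [hC _ hx₀', hP])).symm
    haveI : IsCyclic (P : Subgroup G) := isCyclic_of_prime_card hP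
    exact Subgroup.mem_centralizer_singleton_iff.2
      (congrArg Subtype.val (IsCyclic.commGroup.mul_comm (⟨y, hy⟩ : (P : Subgroup G)) x₀))
  have hperf : commutator G = ⊤ := by
    refine (IsSimpleGroup.eq_bot_or_eq_top_of_normal _ inferInstance).resolve_left fun h => ?_
    have hab : Subgroup.centralizer ({(x₀ : G)} : Set G) = ⊤ := by
      refine eq_top_iff.2 fun y _ => Subgroup.mem_centralizer_singleton_iff.2 ?_
      have h1 := Subgroup.commutator_mem_commutator (Subgroup.mem_top y) (Subgroup.mem_top (x₀ : G))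
      rw [← commutator_def, h, Subgroup.mem_bot, commutatorElement_eq_one_iff_mul_comm] at h1
      exact h1
    have h1 := hC _ hx₀'
    rw [hab, Subgroup.card_top, hG] at h1
    omega
  set N := Subgroup.normalizer ((P : Subgroup G) : Set G)
  have hNe : Nat.card N = 7 * Brauer43.autIndex P := by
    have h1 := Subgroup.card_mul_index ((P : Subgroup G).subgroupOf N)
    rw [Nat.card_congr (Subgroup.subgroupOfEquivOfLe Subgroup.le_normalizer).toEquiv, hP] at h1
    rw [← h1, Brauer43.autIndex, hcen]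
    rfl
  have he : Brauer43.autIndex P = 3 := by
    have h1 := N.card_mul_index
    rw [hNe, show N.index = Nat.card (Sylow 7 G) from P.card_eq_index_normalizer.symm, hG] at h1
    have h2 := card_sylow_modEq_one 7 G
    have h3 : Brauer43.autIndex P ∣ 6 := Brauer43.autIndex_dvd hP
    generalize Brauer43.autIndex P = e at h1 h3
    generalize Nat.card (Sylow 7 G) = n at h1 h2
    unfold Nat.ModEq at h2
    have : e ∈ Nat.divisors 6 := Nat.mem_divisors.2 ⟨h3, by norm_num⟩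
    rw [show Nat.divisors 6 = {1, 2, 3, 6} by decide] at this
    simp only [Finset.mem_insert, Finset.mem_singleton] at this
    rcases this with rfl | rfl | rfl | rfl <;> omega
  obtain ⟨X, Y, εX, ε, hpr, hεp, hdisj, hXc, hYc, hε, hX, hY, hrel, hsumY, hnorm⟩ :=
    Brauer43.exists_block_data hperf hP
  rw [he] at hXc hYc hY
  have hY2 : Y.card = 2 := by omega
  have hX2 : (X.erase (principal G)).card = 2 := by rw [Finset.card_erase_of_mem hpr]; omega
  obtain ⟨χa, χb, hne, hab⟩ := Finset.card_eq_two.1 hX2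
  have haX : χa ∈ X ∧ χa ≠ principal G := by
    have : χa ∈ X.erase (principal G) := by rw [hab]; simp
    exact ⟨Finset.mem_of_mem_erase this, Finset.ne_of_mem_erase this⟩
  have hbX : χb ∈ X ∧ χb ≠ principal G := by
    have : χb ∈ X.erase (principal G) := by rw [hab]; simp
    exact ⟨Finset.mem_of_mem_erase this, Finset.ne_of_mem_erase this⟩
  have hsumX : ∀ f : IrrCharacter G → ℂ, ∑ χ ∈ X, f χ = f (principal G) + f χa + f χb := fun f => by
    rw [← Finset.add_sum_erase _ _ hpr, hab, Finset.sum_pair hne]; ring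
  obtain ⟨θ₀, hθ₀⟩ : Y.Nonempty := Finset.card_pos.1 (by omega)
  have h1reg : ¬ 7 ∣ orderOf (1 : G) := by simp
  have hεε : (ε : ℂ) * ε = 1 := by rcases hε with e' | e' <;> rw [e'] <;> norm_num
  have hθeq : ∀ g : G, ¬ 7 ∣ orderOf g → ∀ θ ∈ Y, (θ : G → ℂ) g = (θ₀ : G → ℂ) g :=
    fun g hg θ hθ => mul_left_cancel₀ (left_ne_zero_of_mul_eq_one hεε)
      ((hrel θ hθ g hg).trans (hrel θ₀ hθ₀ g hg).symm)
  set a := charDegree (χa : G → ℂ) with ha_def
  set b := charDegree (χb : G → ℂ) with hb_def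
  set d := charDegree (θ₀ : G → ℂ) with hd_def
  have hθd : ∀ θ ∈ Y, charDegree (θ : G → ℂ) = d := fun θ hθ => by
    have := hθeq 1 h1reg θ hθ
    rwa [CharApps.deg_eq, CharApps.deg_eq, Nat.cast_inj] at this
  have hpd : charDegree (principal G : G → ℂ) = 1 :=
    Nat.cast_injective (R := ℂ) (by rw [← CharApps.deg_eq, principal_apply, Nat.cast_one])
  have hdvd : ∀ χ : IrrCharacter G, charDegree (χ : G → ℂ) ∣ 6048 := fun χ => by
    obtain ⟨n, -, hn, hd'⟩ := irr_degree_dvd_card χ.2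
    rw [CharApps.deg_eq, Nat.cast_inj] at hn
    rwa [hn, ← hG]
  have htot : (∑ χ ∈ Finset.univ \ (X ∪ Y), charDegree (χ : G → ℂ) * charDegree (χ : G → ℂ)) +
      (1 + a * a + b * b + 2 * (d * d)) = 6048 := by
    have h1 : ∑ χ : IrrCharacter G, charDegree (χ : G → ℂ) * charDegree (χ : G → ℂ) = 6048 := by
      apply Nat.cast_injective (R := ℂ)
      rw [Nat.cast_sum, ← hG, ← sum_degree_sq (G := G)]
      refine Finset.sum_congr rfl fun χ _ => ?_
      rw [Nat.cast_mul, CharApps.deg_eq]; ring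
    rw [← Finset.sum_sdiff (Finset.subset_univ (X ∪ Y)), Finset.sum_union hdisj,
      ← Finset.add_sum_erase _ _ hpr, hab, Finset.sum_pair hne,
      Finset.sum_congr rfl (s₁ := Y) (g := fun _ => d * d) (fun θ hθ => by rw [hθd θ hθ]),
      Finset.sum_const, hY2, hpd, smul_eq_mul] at h1
    rw [← ha_def, ← hb_def] at h1
    omega
  have hlt : a < 78 ∧ b < 78 ∧ d < 78 := by
    refine ⟨?_, ?_, ?_⟩ <;> by_contra hh <;> push Not at hh <;>
      have := Nat.mul_le_mul hh hh <;> omega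
  have hreld : ε * (d : ℤ) = 1 + εX χa * a + εX χb * b := by
    have h := hrel θ₀ hθ₀ 1 h1reg
    rw [hsumX, hεp, principal_apply, CharApps.deg_eq, CharApps.deg_eq, CharApps.deg_eq] at h
    simp only [Int.cast_one, one_mul] at h
    exact_mod_cast h
  have hdeg1 : ∀ χ : IrrCharacter G, χ ≠ principal G → charDegree (χ : G → ℂ) ≠ 1 :=
    fun χ h h1 => h (Brauer43.eq_principal_of_degree_one hperf h1)
  have hcases := deg_cases (hX χa haX.1).1 (hX χb hbX.1).1 hε hlt.1 hlt.2.1 hlt.2.2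
    (hdeg1 χa haX.2) (hdeg1 χb hbX.2) (hdvd χa) (hdvd χb) (hdvd θ₀) (hX χa haX.1).2.1
    (hX χb hbX.1).2.1 (hY θ₀ hθ₀) hreld (by omega)
  refine ⟨?_, ?_⟩
  · rcases hcases with ⟨⟨ha, -⟩ | ⟨-, hb⟩, -⟩ | ⟨⟨ha, -⟩ | ⟨-, hb⟩, -⟩ | ⟨-, hd, -⟩
    · exact ⟨χa, ha ▸ dvd_rfl⟩
    · exact ⟨χb, hb ▸ dvd_rfl⟩
    · exact ⟨χa, ha ▸ dvd_rfl⟩
    · exact ⟨χb, hb ▸ dvd_rfl⟩
    · refine ⟨θ₀, ?_⟩; rw [← hd_def, hd]; norm_num
  by_contra hno
  push Not at hno
  -- characters outside the principal block have degree `7`, `21` or `63`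
  have hout : ∀ χ : IrrCharacter G, χ ∉ X ∪ Y → (χ : G → ℂ) x₀ = 0 := by
    intro χ hχ
    have h1 := second_orthogonality (x₀ : G) (x₀ : G)
    rw [if_pos (IsConj.refl _), hC _ hx₀', ← Finset.sum_sdiff (Finset.subset_univ (X ∪ Y)),
      Finset.sum_union hdisj, hnorm _ x₀.2 hx1] at h1
    have h2 : ∑ χ ∈ Finset.univ \ (X ∪ Y), Complex.normSq ((χ : G → ℂ) x₀) = 0 := by
      refine Complex.ofReal_injective ?_
      rw [Complex.ofReal_sum, Complex.ofReal_zero]
      simp only [← Complex.mul_conj]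
      linear_combination h1
    rw [← Complex.normSq_eq_zero]
    exact (Finset.sum_eq_zero_iff_of_nonneg fun c _ => Complex.normSq_nonneg _).1 h2 χ
      (Finset.mem_sdiff.2 ⟨Finset.mem_univ χ, hχ⟩)
  set O := Finset.univ \ (X ∪ Y) with hO
  have hOdeg : ∀ χ ∈ O, charDegree (χ : G → ℂ) = 7 ∨ charDegree (χ : G → ℂ) = 21 ∨
      charDegree (χ : G → ℂ) = 63 := by
    intro χ hχ
    have h7 : 7 ∣ charDegree (χ : G → ℂ) := by
      by_contra h7
      exact CharApps.char_ne_zero_of_pElement 7 (isCharacter_of_irr χ.2) (CharApps.deg_eq χ) h7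
        (k := 1) (v := (x₀ : G)) (by rw [pow_one]; exact orderOf_dvd_iff_pow_eq_one.1 hx₀'.dvd)
        (hout χ (Finset.mem_sdiff.1 hχ).2)
    have h2 : ¬ 2 ∣ charDegree (χ : G → ℂ) := fun h2 =>
      hno χ (Nat.Coprime.mul_dvd_of_dvd_of_dvd (by norm_num : Nat.Coprime 2 7) h2 h7)
    have hlt' : charDegree (χ : G → ℂ) < 78 := by
      by_contra hh
      push Not at hh
      have h3 := Finset.single_le_sum (s := O)
        (f := fun χ : IrrCharacter G => charDegree (χ : G → ℂ) * charDegree (χ : G → ℂ))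
        (fun c _ => Nat.zero_le _) hχ
      have := Nat.mul_le_mul hh hh
      omega
    exact seven_deg_fin ⟨_, hlt'⟩ (hdvd χ) (by simp only; omega) (by simp only; omega)
  have hcount : ∀ K : Finset (IrrCharacter G), Disjoint O K →
      (∀ χ ∈ K, ¬ 2 ∣ charDegree (χ : G → ℂ)) → O.card + K.card ≤ 8 := by
    intro K hK hKodd
    let S := Finset.univ.filter fun χ : IrrCharacter G => ¬ 2 ∣ charDegree (χ : G → ℂ)
    have hsub : O ∪ K ⊆ S := fun χ hχ => Finset.mem_filter.2 ⟨Finset.mem_univ χ, by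
      rcases Finset.mem_union.1 hχ with h | h
      · rcases hOdeg χ h with e | e | e <;> rw [e] <;> norm_num
      · exact hKodd χ h⟩
    have h8 : g₈ ^ 2 ^ 3 = 1 := by rw [show 2 ^ 3 = 8 from rfl, ← hg8, pow_orderOf_eq_one]
    have hb' := CharApps.card_le_sum_normSq S (fun χ => (χ : G → ℂ)) (fun _ => g₈)
      (fun χ _ => isCharacter_of_irr χ.2)
      (fun χ hχ => CharApps.char_ne_zero_of_pElement 2 (isCharacter_of_irr χ.2)
        (CharApps.deg_eq χ) (Finset.mem_filter.1 hχ).2 h8)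
      (fun k σ hk hσ => ⟨fun χ => CharApps.galoisIrr σ χ, fun χ hχ => by
        refine Finset.mem_filter.2 ⟨Finset.mem_univ _, ?_⟩
        have : charDegree (CharApps.galoisIrr σ χ : G → ℂ) = charDegree (χ : G → ℂ) := by
          apply Nat.cast_injective (R := ℂ)
          rw [← CharApps.deg_eq, CharApps.galoisIrr_apply, CharApps.deg_eq, map_natCast]
        rw [this]
        exact (Finset.mem_filter.1 hχ).2,
        fun a _ b _ e => (CharApps.galoisIrr σ).injective e, fun χ _ => rfl⟩)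
    have h1 := second_orthogonality g₈ g₈
    rw [if_pos (IsConj.refl _), hC8] at h1
    have h2 : ∑ χ : IrrCharacter G, ‖(χ : G → ℂ) g₈‖ ^ 2 = 8 := by
      refine Complex.ofReal_injective ?_
      rw [Complex.ofReal_sum]
      simp only [Complex.sq_norm, ← Complex.mul_conj]
      rw [h1]; norm_num
    have h3 : (S.card : ℝ) ≤ 8 := hb'.trans ((Finset.sum_le_sum_of_subset_of_nonneg
      (Finset.subset_univ S) (fun c _ _ => by positivity)).trans h2.le)
    rw [← Finset.card_union_of_disjoint hK]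
    exact (Finset.card_le_card hsub).trans (by exact_mod_cast h3)
  have hsplit : ∑ χ ∈ O, charDegree (χ : G → ℂ) * charDegree (χ : G → ℂ) =
      49 * (O.filter fun χ : IrrCharacter G => charDegree (χ : G → ℂ) = 7).card +
      441 * (O.filter fun χ : IrrCharacter G => charDegree (χ : G → ℂ) = 21).card +
      3969 * (O.filter fun χ : IrrCharacter G => charDegree (χ : G → ℂ) = 63).card := by
    rw [Finset.card_filter, Finset.card_filter, Finset.card_filter, Finset.mul_sum, Finset.mul_sum,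
      Finset.mul_sum, ← Finset.sum_add_distrib, ← Finset.sum_add_distrib]
    refine Finset.sum_congr rfl fun χ hχ => ?_
    rcases hOdeg χ hχ with e | e | e <;> simp [e]
  have hcardO : O.card = (O.filter fun χ : IrrCharacter G => charDegree (χ : G → ℂ) = 7).card +
      (O.filter fun χ : IrrCharacter G => charDegree (χ : G → ℂ) = 21).card +
      (O.filter fun χ : IrrCharacter G => charDegree (χ : G → ℂ) = 63).card := by
    rw [Finset.card_filter, Finset.card_filter, Finset.card_filter, ← Finset.sum_add_distrib,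
      ← Finset.sum_add_distrib, Finset.card_eq_sum_ones]
    refine Finset.sum_congr rfl fun χ hχ => ?_
    rcases hOdeg χ hχ with e | e | e <;> simp [e]
  have hpY : principal G ∉ Y := Finset.disjoint_left.1 hdisj hpr
  have hOX : ∀ χ ∈ O, χ ∉ X ∧ χ ∉ Y := fun χ hχ => by
    have := (Finset.mem_sdiff.1 hχ).2
    rw [Finset.mem_union] at this
    push Not at this
    exact this
  rcases hcases with ⟨hab', hd⟩ | ⟨hab', hd⟩ | ⟨hab', hd, he'⟩
  · -- degrees `1, 6, 8, 3, 3`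
    have hK := hcount (insert (principal G) Y) (Finset.disjoint_left.2 fun χ hχ h => by
        rcases Finset.mem_insert.1 h with rfl | h
        · exact (hOX _ hχ).1 hpr
        · exact (hOX _ hχ).2 h) (fun χ hχ => by
        rcases Finset.mem_insert.1 hχ with rfl | h
        · rw [hpd]; norm_num
        · rw [hθd χ h, hd]; norm_num)
    rw [Finset.card_insert_of_notMem hpY, hY2] at hK
    rcases hab' with ⟨ha, hb⟩ | ⟨ha, hb⟩ <;> (rw [ha, hb, hd] at htot; omega)
  · -- degrees `1, 6, 27, 32, 32`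
    obtain ⟨χ₂, hχ₂X, hχ₂⟩ : ∃ χ ∈ X.erase (principal G), charDegree (χ : G → ℂ) = 27 := by
      rw [hab]
      rcases hab' with ⟨-, hb⟩ | ⟨ha, -⟩
      exacts [⟨χb, by simp, hb⟩, ⟨χa, by simp, ha⟩]
    have hK := hcount {principal G, χ₂} (Finset.disjoint_left.2 fun χ hχ h => by
        rcases Finset.mem_insert.1 h with rfl | h
        · exact (hOX _ hχ).1 hpr
        · rw [Finset.mem_singleton] at h
          exact (hOX _ hχ).1 (h ▸ Finset.mem_of_mem_erase hχ₂X)) (fun χ hχ => by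
        rcases Finset.mem_insert.1 hχ with rfl | h
        · rw [hpd]; norm_num
        · rw [Finset.mem_singleton.1 h, hχ₂]; norm_num)
    rw [Finset.card_pair (Finset.ne_of_mem_erase hχ₂X).symm] at hK
    rcases hab' with ⟨ha, hb⟩ | ⟨ha, hb⟩ <;> (rw [ha, hb, hd] at htot; omega)
  -- degrees `1, 8, 27, 18, 18`: excluded by an involution
  obtain ⟨t, ht⟩ := exists_prime_orderOf_dvd_card' 2 (show 2 ∣ Nat.card G by rw [hG]; norm_num)
  have htt : t * t = 1 := by rw [← sq, ← ht]; exact pow_orderOf_eq_one t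
  have htreg : ¬ 7 ∣ orderOf t := by rw [ht]; norm_num
  have hzero : Nat.card {p : G × G // IsConj t p.1 ∧ IsConj t p.2 ∧ p.1 * p.2 = (x₀ : G)} = 0 := by
    rw [Finite.card_eq_zero_iff]
    refine ⟨fun ⟨⟨c, c'⟩, hc, hc', hp⟩ => ?_⟩
    obtain ⟨g, rfl⟩ := isConj_iff.1 hc
    obtain ⟨g', rfl⟩ := isConj_iff.1 hc'
    have h2 : g * t * g⁻¹ * (g * t * g⁻¹) = 1 := by
      rw [show g * t * g⁻¹ * (g * t * g⁻¹) = g * (t * t) * g⁻¹ by group, htt]; group
    have h3 : g' * t * g'⁻¹ * (g' * t * g'⁻¹) = 1 := by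
      rw [show g' * t * g'⁻¹ * (g' * t * g'⁻¹) = g' * (t * t) * g'⁻¹ by group, htt]; group
    have hinv : g * t * g⁻¹ * x₀ * (g * t * g⁻¹)⁻¹ = (x₀ : G)⁻¹ := by
      rw [← hp, mul_inv_rev (g * t * g⁻¹), inv_eq_of_mul_eq_one_right h2,
        inv_eq_of_mul_eq_one_right h3, ← mul_assoc (g * t * g⁻¹) (g * t * g⁻¹), h2, one_mul]
    have hmem : g * t * g⁻¹ ∈ N := by
      refine Subgroup.mem_normalizer_iff.2 ?_
      have hPz := Blocks.zpowers_eq_of_prime_card hP x₀.2 hx1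
      have key : ∀ z ∈ (P : Subgroup G), g * t * g⁻¹ * z * (g * t * g⁻¹)⁻¹ ∈ (P : Subgroup G) := by
        intro z hz
        rw [← hPz] at hz
        obtain ⟨k, rfl⟩ := hz
        dsimp only
        rw [← conj_zpow, hinv]
        exact zpow_mem (inv_mem x₀.2) k
      have hcinv : (g * t * g⁻¹)⁻¹ = g * t * g⁻¹ := inv_eq_of_mul_eq_one_right h2
      intro z
      refine ⟨fun hz => key z hz, fun hz => ?_⟩
      have := key _ hz
      generalize g * t * g⁻¹ = c at h2 hcinv this ⊢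
      rwa [hcinv, show c * (c * z * c) * c = c * c * z * (c * c) by group, h2, one_mul, mul_one]
        at this
    have h21 : orderOf (g * t * g⁻¹) ∣ 21 := by
      have := orderOf_dvd_natCard (⟨g * t * g⁻¹, hmem⟩ : N)
      rw [Subgroup.orderOf_mk, hNe, he] at this
      exact this
    rw [show g * t * g⁻¹ = MulAut.conj g t from rfl, MulEquiv.orderOf_eq, ht] at h21
    norm_num at h21
  have hS := Cfsg.Agent.S0840.result t t (x₀ : G)
  rw [hzero, Nat.cast_zero, finsum_eq_sum_of_fintype] at hS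
  haveI : Nonempty {x : G // IsConj t x} := ⟨⟨t, IsConj.refl t⟩⟩
  have hne0 : (Nat.card {x : G // IsConj t x} : ℂ) * (Nat.card {x : G // IsConj t x} : ℂ) /
      (Nat.card G : ℂ) ≠ 0 := div_ne_zero (mul_ne_zero (Nat.cast_ne_zero.2 Nat.card_pos.ne')
        (Nat.cast_ne_zero.2 Nat.card_pos.ne')) (card_ne_zero G)
  have hS' := (mul_eq_zero.1 hS.symm).resolve_left hne0
  rw [← Finset.sum_subset (Finset.subset_univ (X ∪ Y)) (fun χ _ hχ => by
      rw [hout χ hχ, map_zero, mul_zero, zero_div]), Finset.sum_union hdisj, hsumX] at hS'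
  have hXv : ∀ χ ∈ X, conj ((χ : G → ℂ) x₀) = (εX χ : ℂ) := fun χ hχ => by
    have := (hX χ hχ).2.2 x₀ x₀.2 hx1 1 (one_mem _) h1reg
    rw [mul_one] at this
    rw [this, map_intCast]
  rw [hXv _ hpr, hXv _ haX.1, hXv _ hbX.1, hεp,
    Finset.sum_congr rfl (s₁ := Y) (g := fun θ : IrrCharacter G =>
      (θ₀ : G → ℂ) t * (θ₀ : G → ℂ) t / (θ₀ : G → ℂ) 1 * conj ((θ : G → ℂ) x₀)) (fun θ hθ => by
        rw [hθeq t htreg θ hθ, hθeq 1 h1reg θ hθ]; ring),
    ← Finset.mul_sum, ← map_sum, hsumY _ x₀.2 hx1, map_neg, map_intCast,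
    CharApps.deg_eq θ₀, CharApps.deg_eq χa, CharApps.deg_eq χb, ← ha_def, ← hb_def, ← hd_def] at hS'
  simp only [principal_apply, Int.cast_one] at hS'
  have hw := hrel θ₀ hθ₀ t htreg
  rw [hsumX, hεp, principal_apply] at hw
  simp only [Int.cast_one, one_mul] at hw
  have ht1 : t ≠ 1 := fun h => by rw [h, orderOf_one] at ht; omega
  have bound : ∀ χ : IrrCharacter G, χ ≠ principal G → ∃ m : ℤ, (m : ℂ) = (χ : G → ℂ) t ∧
      -(charDegree (χ : G → ℂ) : ℤ) ≤ m ∧ m < (charDegree (χ : G → ℂ) : ℤ) := by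
    intro χ hχ
    obtain ⟨m, hm, -⟩ := Blocks.exists_int_invol_parity χ htt
    have h1 := char_norm_le (isCharacter_of_irr χ.2) t
    rw [← hm, CharApps.deg_eq, Complex.norm_intCast, Complex.natCast_re] at h1
    have h2 : |m| ≤ (charDegree (χ : G → ℂ) : ℤ) := by exact_mod_cast h1
    rw [abs_le] at h2
    refine ⟨m, hm, h2.1, lt_of_le_of_ne h2.2 fun h => U34.apply_ne_degree hχ ht1 ?_⟩
    rw [← hm, h, CharApps.deg_eq, Int.cast_natCast]
  obtain ⟨u, hu, hu1, hu2⟩ := bound χa haX.2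
  obtain ⟨v, hv, hv1, hv2⟩ := bound χb hbX.2
  rw [← ha_def] at hu1 hu2
  rw [← hb_def] at hv1 hv2
  rw [← hu, ← hv] at hS' hw
  have core : ∀ p q : ℤ, -8 ≤ p → p < 8 → -27 ≤ q → q ≤ 27 →
      (1 : ℂ) + (p : ℂ) * p / 8 - (q : ℂ) * q / 27 + (1 + p - q) * (1 + p - q) / 18 ≠ 0 := by
    intro p q h1 h2 h3 h4 heq
    have hz : ((216 + 27 * p ^ 2 - 8 * q ^ 2 + 12 * (1 + p - q) ^ 2 : ℤ) : ℂ) = 0 := by
      push_cast
      linear_combination (216 : ℂ) * heq
    have hiv := involution_values ⟨(p + 8).toNat, by omega⟩ ⟨(q + 27).toNat, by omega⟩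
    simp only [Int.toNat_of_nonneg (show (0 : ℤ) ≤ p + 8 by omega),
      Int.toNat_of_nonneg (show (0 : ℤ) ≤ q + 27 by omega), add_sub_cancel_right] at hiv
    exact hiv (by exact_mod_cast hz)
  rcases hab' with ⟨ha', hsa', hb', hub'⟩ | ⟨ha', hsa', hb', hub'⟩
  · rw [hsa', hub', he'] at hS' hw
    rw [ha', hb', hd] at hS'
    rw [ha'] at hu1 hu2
    rw [hb'] at hv1 hv2
    push_cast at hS' hw hu1 hu2 hv1 hv2
    rw [show (θ₀ : G → ℂ) t = -(1 + u - v) by linear_combination -hw] at hS'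
    exact core u v hu1 hu2 hv1 hv2.le (by linear_combination hS')
  · rw [hsa', hub', he'] at hS' hw
    rw [ha', hb', hd] at hS'
    rw [ha'] at hu1 hu2
    rw [hb'] at hv1 hv2
    push_cast at hS' hw hu1 hu2 hv1 hv2
    rw [show (θ₀ : G → ℂ) t = -(1 - u + v) by linear_combination -hw] at hS'
    exact core v u hv1 hv2 hu1 hu2.le (by linear_combination hS')

end CfsgLib.CharsMore.U33
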