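import Cfsg.Agent.Lib.CharsMore.U33.Groups

/-!
# The two solvable examples of order `6048`
-/

set_option linter.unusedSectionVars false
set_option linter.style.haveILetI false

namespace CfsgLib.CharsMore.U33

open Cfsg CfsgLib.Chars

/-- `𝔽₂³`. -/
abbrev V8 : Type := ZMod 2 × ZMod 2 × ZMod 2

/-- `𝔽₂³ × 𝔽₃²`. -/
abbrev V72 : Type := V8 × ZMod 3 × ZMod 3

/-- Multiplication by a generator of `𝔽₈ˣ`. -/
def mu : V8 ≃+ V8 where
  toFun v := (v.2.2, v.1 + v.2.2, v.2.1)
  invFun v := (v.2.1 + v.1, v.2.2, v.1)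
  left_inv := by unfold Function.LeftInverse; decide +kernel
  right_inv := by unfold Function.RightInverse Function.LeftInverse; decide +kernel
  map_add' := by decide +kernel

/-- The squaring map of `𝔽₈`. -/
def frob : V8 ≃+ V8 where
  toFun v := (v.1, v.2.2, v.2.1 + v.2.2)
  invFun v := (v.1, v.2.2 + v.2.1, v.2.1)
  left_inv := by unfold Function.LeftInverse; decide +kernel
  right_inv := by unfold Function.RightInverse Function.LeftInverse; decide +kernel
  map_add' := by decide +kernel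

/-- An element of order `6` of `GL₂(3)`. -/
def six : (ZMod 3 × ZMod 3) ≃+ (ZMod 3 × ZMod 3) where
  toFun v := (-v.1 + v.2, -v.2)
  invFun v := (-v.2 - v.1, -v.2)
  left_inv := by unfold Function.LeftInverse; decide +kernel
  right_inv := by unfold Function.RightInverse Function.LeftInverse; decide +kernel
  map_add' := by decide +kernel

/-- An automorphism of order `42`. -/
def alpha : MulAut (Multiplicative V72) := AddEquiv.toMultiplicative (mu.prodCongr six)

theorem alpha_pow : alpha ^ 42 = 1 := MulEquiv.ext (by decide +kernel)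

/-- The functional with free orbit. -/
def ell72 : V72 →+ ZMod 6 where
  toFun v := ((3 * v.1.1.val + 2 * v.2.1.val : ℕ) : ZMod 6)
  map_zero' := by decide +kernel
  map_add' := by decide +kernel

theorem ell72_free : ∀ c : Multiplicative (ZMod 42), c = 1 ↔
    ∀ v : V72, ell72 (Multiplicative.toAdd (cycHom 42 alpha alpha_pow c (Multiplicative.ofAdd v))) =
      ell72 v := by
  decide +kernel

/-- `(𝔽₂³ × 𝔽₃²) ⋊ C₄₂`. -/
abbrev G3024 : Type := Multiplicative V72 ⋊[cycHom 42 alpha alpha_pow] Multiplicative (ZMod 42)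

def negThree : MulAut (Multiplicative (ZMod 3)) := AddEquiv.toMultiplicative (AddEquiv.neg (ZMod 3))

theorem negThree_pow : negThree ^ 2 = 1 := MulEquiv.ext (by decide +kernel)

/-- `S₃`. -/
abbrev D6 : Type := Multiplicative (ZMod 3) ⋊[cycHom 2 negThree negThree_pow] Multiplicative (ZMod 2)

def dbl : ZMod 7 ≃+ ZMod 7 where
  toFun i := 2 * i
  invFun i := 4 * i
  left_inv := by unfold Function.LeftInverse; decide +kernel
  right_inv := by unfold Function.RightInverse Function.LeftInverse; decide +kernel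
  map_add' := by decide +kernel

def dblM : MulAut (Multiplicative (ZMod 7)) := AddEquiv.toMultiplicative dbl

theorem dblM_pow : dblM ^ 3 = 1 := MulEquiv.ext (by decide +kernel)

/-- `C₇ ⋊ C₃`. -/
abbrev F21 : Type := Multiplicative (ZMod 7) ⋊[cycHom 3 dblM dblM_pow] Multiplicative (ZMod 3)

def muM : MulAut (Multiplicative V8) := AddEquiv.toMultiplicative mu

def frobM : MulAut (Multiplicative V8) := AddEquiv.toMultiplicative frob

theorem muM_pow : muM ^ 7 = 1 := MulEquiv.ext (by decide +kernel)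

theorem frobM_pow : frobM ^ 3 = 1 := MulEquiv.ext (by decide +kernel)

theorem act21_compat : ∀ (j : Multiplicative (ZMod 3)) (i : Multiplicative (ZMod 7))
    (v : Multiplicative V8),
    cycHom 7 muM muM_pow (cycHom 3 dblM dblM_pow j i) v =
      (cycHom 3 frobM frobM_pow j * cycHom 7 muM muM_pow i * (cycHom 3 frobM frobM_pow j)⁻¹) v := by
  decide +kernel

/-- The action of `C₇ ⋊ C₃` on `𝔽₈`. -/
def act21 : F21 →* MulAut (Multiplicative V8) :=
  SemidirectProduct.lift (cycHom 7 muM muM_pow) (cycHom 3 frobM frobM_pow)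
    (fun j => MonoidHom.ext fun i => MulEquiv.ext fun v => act21_compat j i v)

/-- `AΓL(1,8)`. -/
abbrev G168 : Type := Multiplicative V8 ⋊[act21] F21

def ell8 : V8 →+ ZMod 2 := AddMonoidHom.fst _ _

theorem ell8_stab : ∀ (i : Multiplicative (ZMod 7)) (j : Multiplicative (ZMod 3)), i = 1 ↔
    ∀ v : V8, ell8 (Multiplicative.toAdd (act21 ⟨i, j⟩ (Multiplicative.ofAdd v))) = ell8 v := by
  decide +kernel

theorem ell7_free : ∀ c : Multiplicative (ZMod 3), c = 1 ↔
    ∀ v : ZMod 7, AddMonoidHom.id (ZMod 7)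
      (Multiplicative.toAdd (cycHom 3 dblM dblM_pow c (Multiplicative.ofAdd v))) =
      AddMonoidHom.id (ZMod 7) v := by
  decide +kernel

theorem ell3_free : ∀ c : Multiplicative (ZMod 2), c = 1 ↔
    ∀ v : ZMod 3, AddMonoidHom.id (ZMod 3)
      (Multiplicative.toAdd (cycHom 2 negThree negThree_pow c (Multiplicative.ofAdd v))) =
      AddMonoidHom.id (ZMod 3) v := by
  decide +kernel

theorem isSolvable_semidirect {N G : Type*} [Group N] [Group G] (φ : G →* MulAut N)
    (hN : Group.IsSolvable N) (hG : Group.IsSolvable G) : Group.IsSolvable (N ⋊[φ] G) := by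
  haveI := hN
  haveI := hG
  exact Group.isSolvable_of_ker_le_range (SemidirectProduct.inl : N →* N ⋊[φ] G)
    SemidirectProduct.rightHom SemidirectProduct.range_inl_eq_ker_rightHom.ge

theorem exists_42 : ∃ d ∈ Cfsg.charDegrees G3024, 42 ∣ d := by
  obtain ⟨χ, hχ⟩ := exists_degree (cycHom 42 alpha alpha_pow) 6 ell72 ⊥
    (fun c => by rw [Subgroup.mem_bot]; exact ell72_free c)
    (fun x _ y _ => mul_comm x y)
  rw [Subgroup.index_bot, Nat.card_congr Multiplicative.toAdd, Nat.card_zmod] at hχ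
  exact ⟨_, ⟨χ, rfl⟩, hχ⟩

theorem exists_two : ∃ d ∈ Cfsg.charDegrees D6, 2 ∣ d := by
  obtain ⟨χ, hχ⟩ := exists_degree (cycHom 2 negThree negThree_pow) 3 (AddMonoidHom.id _) ⊥
    (fun c => by rw [Subgroup.mem_bot]; exact ell3_free c)
    (fun x _ y _ => mul_comm x y)
  rw [Subgroup.index_bot, Nat.card_congr Multiplicative.toAdd, Nat.card_zmod] at hχ
  exact ⟨_, ⟨χ, rfl⟩, hχ⟩

theorem card_F21 : Nat.card F21 = 21 := by
  rw [SemidirectProduct.card, Nat.card_congr Multiplicative.toAdd, Nat.card_zmod,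
    Nat.card_congr Multiplicative.toAdd, Nat.card_zmod]

theorem exists_seven : ∃ d ∈ Cfsg.charDegrees G168, 7 ∣ d := by
  haveI : Finite F21 := Finite.of_equiv _ SemidirectProduct.equivProd.symm
  let S : Subgroup F21 := (SemidirectProduct.inr : Multiplicative (ZMod 3) →* F21).range
  have hS : ∀ c : F21, c ∈ S ↔ c.left = 1 := fun c =>
    ⟨fun ⟨j, hj⟩ => hj ▸ SemidirectProduct.left_inr j,
      fun h => ⟨c.right, SemidirectProduct.ext (by rw [SemidirectProduct.left_inr, h])
        (SemidirectProduct.right_inr _)⟩⟩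
  obtain ⟨χ, hχ⟩ := exists_degree act21 2 ell8 S
    (fun c => (hS c).trans (ell8_stab c.left c.right))
    (fun x hx y hy => SemidirectProduct.ext
      (by simp [(hS x).1 hx, (hS y).1 hy]) (mul_comm x.right y.right))
  have h := S.card_mul_index
  rw [Nat.card_congr (MonoidHom.ofInjective SemidirectProduct.inr_injective).symm.toEquiv,
    Nat.card_congr Multiplicative.toAdd, Nat.card_zmod, card_F21] at h
  rw [show S.index = 7 by omega] at hχ
  exact ⟨_, ⟨χ, rfl⟩, hχ⟩

theorem exists_three : ∃ d ∈ Cfsg.charDegrees G168, 3 ∣ d := by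
  obtain ⟨χ, hχ⟩ := exists_degree (cycHom 3 dblM dblM_pow) 7 (AddMonoidHom.id _) ⊥
    (fun c => by rw [Subgroup.mem_bot]; exact ell7_free c)
    (fun x _ y _ => mul_comm x y)
  rw [Subgroup.index_bot, Nat.card_congr Multiplicative.toAdd, Nat.card_zmod] at hχ
  refine ⟨_, ⟨⟨_, isIrrCharacter_comp (SemidirectProduct.rightHom : G168 →* F21)
    SemidirectProduct.rightHom_surjective χ.2⟩, rfl⟩, ?_⟩
  simpa [charDegree] using hχ

theorem card_G3024 : Nat.card G3024 = 3024 := by
  rw [SemidirectProduct.card, Nat.card_congr Multiplicative.toAdd,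
    Nat.card_congr Multiplicative.toAdd, Nat.card_prod, Nat.card_prod, Nat.card_prod,
    Nat.card_prod, Nat.card_zmod, Nat.card_zmod, Nat.card_zmod]

theorem card_G168 : Nat.card G168 = 168 := by
  rw [SemidirectProduct.card, Nat.card_congr Multiplicative.toAdd, card_F21, Nat.card_prod,
    Nat.card_prod, Nat.card_zmod]

theorem card_D6 : Nat.card D6 = 6 := by
  rw [SemidirectProduct.card, Nat.card_congr Multiplicative.toAdd, Nat.card_zmod,
    Nat.card_congr Multiplicative.toAdd, Nat.card_zmod]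

/-- The example whose degree graph is complete. -/
abbrev H1 : Type := Multiplicative (ZMod 2) × G3024

/-- The example whose degree graph has no edge `{3, 7}`. -/
abbrev H2 : Type := G168 × (D6 × Multiplicative (ZMod 6))

instance : Finite G3024 := Finite.of_equiv _ SemidirectProduct.equivProd.symm

instance : Finite F21 := Finite.of_equiv _ SemidirectProduct.equivProd.symm

instance : Finite G168 := Finite.of_equiv _ SemidirectProduct.equivProd.symm

instance : Finite D6 := Finite.of_equiv _ SemidirectProduct.equivProd.symm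

theorem one_mem_degrees (A : Type*) [Group A] : 1 ∈ Cfsg.charDegrees A :=
  ⟨CharApps.oneIrr A, Nat.cast_injective (R := ℂ)
    (by rw [← CharApps.deg_eq, CharApps.oneIrr_apply, Nat.cast_one])⟩

theorem solvable_H1 : Group.IsSolvable H1 := by
  haveI : Group.IsSolvable G3024 := isSolvable_semidirect _ inferInstance inferInstance
  infer_instance

theorem solvable_H2 : Group.IsSolvable H2 := by
  haveI : Group.IsSolvable F21 := isSolvable_semidirect _ inferInstance inferInstance
  haveI : Group.IsSolvable G168 := isSolvable_semidirect _ inferInstance inferInstance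
  haveI : Group.IsSolvable D6 := isSolvable_semidirect _ inferInstance inferInstance
  infer_instance

theorem card_H1 : Nat.card H1 = 6048 := by
  rw [Nat.card_prod, card_G3024, Nat.card_congr Multiplicative.toAdd, Nat.card_zmod]

theorem card_H2 : Nat.card H2 = 6048 := by
  rw [Nat.card_prod, Nat.card_prod, card_G168, card_D6, Nat.card_congr Multiplicative.toAdd,
    Nat.card_zmod]

theorem H1_degree : ∃ d ∈ Cfsg.charDegrees H1, 42 ∣ d := by
  obtain ⟨d, hd, h⟩ := exists_42
  exact ⟨1 * d, (degree_prod _).2 ⟨1, one_mem_degrees _, d, hd, rfl⟩, by rwa [one_mul]⟩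

theorem H2_degrees : (∃ d ∈ Cfsg.charDegrees H2, 6 ∣ d) ∧ (∃ d ∈ Cfsg.charDegrees H2, 14 ∣ d) ∧
    ¬ ∃ d ∈ Cfsg.charDegrees H2, 21 ∣ d := by
  obtain ⟨b, hb, hb2⟩ := exists_two
  obtain ⟨a, ha, ha3⟩ := exists_three
  obtain ⟨c, hc, hc7⟩ := exists_seven
  have hb' : b * 1 ∈ Cfsg.charDegrees (D6 × Multiplicative (ZMod 6)) :=
    (degree_prod _).2 ⟨b, hb, 1, one_mem_degrees _, rfl⟩
  refine ⟨⟨a * (b * 1), (degree_prod _).2 ⟨a, ha, _, hb', rfl⟩, ?_⟩,
    ⟨c * (b * 1), (degree_prod _).2 ⟨c, hc, _, hb', rfl⟩, ?_⟩, ?_⟩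
  · rw [mul_one]; exact (by norm_num : 6 = 3 * 2) ▸ mul_dvd_mul ha3 hb2
  · rw [mul_one]; exact (by norm_num : 14 = 7 * 2) ▸ mul_dvd_mul hc7 hb2
  rintro ⟨d, hd, h21⟩
  obtain ⟨x, hx, y, hy, rfl⟩ := (degree_prod _).1 hd
  obtain ⟨s, hs, t, ht, rfl⟩ := (degree_prod _).1 hy
  obtain ⟨hx1, hx2⟩ := sq_le_of_mem hx
  rw [card_G168] at hx1 hx2
  obtain ⟨hs1, hs2⟩ := sq_le_of_mem hs
  rw [card_D6] at hs1 hs2
  obtain ⟨ht1, ht2⟩ := sq_le_of_mem ht
  rw [Nat.card_congr Multiplicative.toAdd, Nat.card_zmod] at ht1 ht2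
  have hs3 : s = 1 ∨ s = 2 := by
    have : 0 < s := Nat.pos_of_dvd_of_pos hs2 (by norm_num)
    have : s ≤ 2 := by nlinarith
    omega
  have ht3 : t = 1 ∨ t = 2 := by
    have : 0 < t := Nat.pos_of_dvd_of_pos ht2 (by norm_num)
    have : t ≤ 2 := by nlinarith
    omega
  have hx3 : 21 ∣ x := by
    refine (Nat.Coprime.dvd_mul_right (k := 21) (n := s * t) ?_).1 h21
    rcases hs3 with rfl | rfl <;> rcases ht3 with rfl | rfl <;> norm_num
  have : 0 < x := Nat.pos_of_dvd_of_pos hx2 (by norm_num)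
  have := Nat.le_of_dvd this hx3
  nlinarith

end CfsgLib.CharsMore.U33
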