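import Cfsg.Agent.Lib.CharsMore.InertiaAbelian
import Cfsg.Agent.Lib.Chars.Linear
import Cfsg.Agent.Lib.Chars.Product
import Cfsg.Prelude.Def_DegreeGraph

/-!
# Two solvable groups of order `6048`
-/

set_option linter.unusedSectionVars false
set_option linter.style.haveILetI false

namespace CfsgLib.CharsMore.U33

open Cfsg CfsgLib.Chars

/-- A homomorphism from a cyclic group. -/
def cycHom (n : ℕ) [NeZero n] {M : Type*} [Monoid M] (a : M) (h : a ^ n = 1) :
    Multiplicative (ZMod n) →* M where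
  toFun i := a ^ i.toAdd.val
  map_one' := by simp
  map_mul' i j := by
    rw [toAdd_mul, ZMod.val_add, ← pow_eq_pow_mod _ h, pow_add]

variable {V : Type*} [AddCommGroup V] [Finite V] {C : Type*} [Group C] [Finite C]

/-- An irreducible character above a linear character of an abelian normal subgroup. -/
theorem exists_degree (φ : C →* MulAut (Multiplicative V)) (m : ℕ) [NeZero m] (ℓ : V →+ ZMod m)
    (S : Subgroup C)
    (hS : ∀ c : C, c ∈ S ↔ ∀ v : V, ℓ (Multiplicative.toAdd (φ c (Multiplicative.ofAdd v))) = ℓ v)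
    (hab : ∀ x ∈ S, ∀ y ∈ S, x * y = y * x) :
    ∃ χ : IrrCharacter (Multiplicative V ⋊[φ] C),
      S.index ∣ charDegree (χ : Multiplicative V ⋊[φ] C → ℂ) := by
  classical
  haveI : Finite (Multiplicative V ⋊[φ] C) := Finite.of_equiv _ SemidirectProduct.equivProd.symm
  haveI := Fintype.ofFinite (Multiplicative V ⋊[φ] C)
  let N : Subgroup (Multiplicative V ⋊[φ] C) := SemidirectProduct.rightHom.ker
  haveI := Fintype.ofFinite N
  let ψ : AddChar (ZMod m) ℂ := ZMod.stdAddChar
  let lam : N →* ℂˣ := MonoidHom.toHomUnits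
    { toFun := fun n => ψ (ℓ (Multiplicative.toAdd n.1.left))
      map_one' := by simp
      map_mul' := fun a b => by
        have ha : a.1.right = 1 := a.2
        rw [Subgroup.coe_mul, SemidirectProduct.mul_left, ha, map_one, MulAut.one_apply, toAdd_mul,
          map_add, AddChar.map_add_eq_mul] }
  let θ : N → ℂ := fun n => (lam n : ℂ)
  have hθ : IsIrrCharacter N θ := isIrrCharacter_linear lam
  let T := S.comap (SemidirectProduct.rightHom : Multiplicative V ⋊[φ] C →* C)
  haveI := Fintype.ofFinite T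
  have hlift : ∀ (g : Multiplicative V ⋊[φ] C) (n : N),
      θ (conjBy N g n) = ψ (ℓ (Multiplicative.toAdd (φ g.right n.1.left))) := by
    intro g n
    show ψ (ℓ (Multiplicative.toAdd (g * n.1 * g⁻¹).left)) = _
    have hn : n.1.right = 1 := n.2
    rw [SemidirectProduct.mul_left, SemidirectProduct.mul_left, SemidirectProduct.mul_right, hn,
      mul_one, SemidirectProduct.inv_left, ← MulAut.mul_apply, ← map_mul, mul_inv_cancel, map_one,
      MulAut.one_apply, mul_comm g.left, mul_inv_cancel_right]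
  have hT : T = inertia N θ := by
    ext g
    rw [Subgroup.mem_comap, mem_inertia, hS, SemidirectProduct.rightHom_eq_right]
    constructor
    · intro h n
      rw [hlift]
      show ψ (ℓ (Multiplicative.toAdd (φ g.right (Multiplicative.ofAdd (Multiplicative.toAdd n.1.left))))) = _
      rw [h]
      rfl
    · intro h v
      have h1 := h ⟨SemidirectProduct.inl (Multiplicative.ofAdd v), by
        show SemidirectProduct.rightHom _ = 1
        simp⟩
      rw [hlift] at h1
      exact ZMod.injective_stdAddChar h1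
  obtain ⟨e, X, he, hX, -, hcard, hdeg, -⟩ := indFun_inertia_abelian N θ hθ T hT
    (fun x hx y hy => by
      show SemidirectProduct.rightHom _ = 1
      rw [map_mul, map_mul, map_mul, map_inv, map_inv, hab _ hx _ hy, mul_inv_cancel_right,
        mul_inv_cancel])
  obtain ⟨χ, hχ⟩ : X.Nonempty := Finset.card_pos.1 (Nat.pos_of_ne_zero fun h0 => by
    rw [h0, mul_zero] at hcard
    exact Subgroup.FiniteIndex.index_ne_zero hcard.symm)
  refine ⟨⟨χ, hX χ hχ⟩, e, ?_⟩
  apply Nat.cast_injective (R := ℂ)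
  rw [← CharApps.deg_eq]
  show χ 1 = _
  rw [hdeg χ hχ, show θ 1 = 1 from by simp [θ], mul_one, Nat.cast_mul,
    Subgroup.index_comap_of_surjective _ SemidirectProduct.rightHom_surjective]

omit [Finite V] [Finite C] in
theorem charDegree_mem {G : Type*} [Group G] {d : ℕ} (χ : IrrCharacter G)
    (h : charDegree (χ : G → ℂ) = d) : d ∈ Cfsg.charDegrees G := ⟨χ, h⟩

/-- Degrees of a direct product. -/
theorem degree_prod {G H : Type*} [Group G] [Finite G] [Group H] [Finite H] (d : ℕ) :
    d ∈ Cfsg.charDegrees (G × H) ↔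
      ∃ a ∈ Cfsg.charDegrees G, ∃ b ∈ Cfsg.charDegrees H, a * b = d := by
  constructor
  · rintro ⟨χ, rfl⟩
    obtain ⟨φ, ψ, hφ, hψ, h⟩ := (isIrrCharacter_prod_iff _).1 χ.2
    refine ⟨_, ⟨⟨φ, hφ⟩, rfl⟩, _, ⟨⟨ψ, hψ⟩, rfl⟩, ?_⟩
    apply Nat.cast_injective (R := ℂ)
    rw [Nat.cast_mul, ← CharApps.deg_eq, ← CharApps.deg_eq, ← CharApps.deg_eq]
    exact (congrFun h 1).symm
  · rintro ⟨_, ⟨φ, rfl⟩, _, ⟨ψ, rfl⟩, rfl⟩
    refine ⟨⟨_, isIrrCharacter_prod φ.2 ψ.2⟩, ?_⟩
    apply Nat.cast_injective (R := ℂ)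
    rw [Nat.cast_mul, ← CharApps.deg_eq, ← CharApps.deg_eq, ← CharApps.deg_eq]
    rfl

theorem sq_le_of_mem {G : Type*} [Group G] [Finite G] {d : ℕ} (hd : d ∈ Cfsg.charDegrees G) :
    d * d ≤ Nat.card G ∧ d ∣ Nat.card G := by
  classical
  haveI := irrFintype G
  obtain ⟨χ, rfl⟩ := hd
  refine ⟨?_, ?_⟩
  · have h : ∑ ψ : IrrCharacter G, charDegree (ψ : G → ℂ) * charDegree (ψ : G → ℂ) = Nat.card G := by
      apply Nat.cast_injective (R := ℂ)
      rw [Nat.cast_sum, ← sum_degree_sq (G := G)]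
      refine Finset.sum_congr rfl fun ψ _ => ?_
      rw [Nat.cast_mul, CharApps.deg_eq]; ring
    rw [← h]
    exact Finset.single_le_sum
      (f := fun ψ : IrrCharacter G => charDegree (ψ : G → ℂ) * charDegree (ψ : G → ℂ))
      (fun c _ => Nat.zero_le _) (Finset.mem_univ χ)
  · obtain ⟨n, -, hn, hd'⟩ := irr_degree_dvd_card χ.2
    rw [CharApps.deg_eq, Nat.cast_inj] at hn
    rwa [hn]

end CfsgLib.CharsMore.U33
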