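import Cfsg.Agent.Lib.Rec.ThreeSpectrum
import Cfsg.Agent.Lib.Classical.UnitarySimple
import Cfsg.Agent.Lib.Classical.UnitaryOrder

/-!
# An element of order `8` of `PSU₃(3)` with centralizer of order `8`
-/

set_option linter.unusedSectionVars false
set_option linter.style.haveILetI false

namespace CfsgLib.CharsMore.U33

open Matrix CfsgLib.Rec.ThreeSpectrum

/-- `i ∈ GF(9)`. -/
def iK : K9 := ⟨0, 1⟩

theorem comm_check : ∀ a₁ a₂ b₁ b₂ d₁ d₂ : ZMod 3,
    (!![(⟨a₁, a₂⟩ : K9), 0, ⟨b₁, b₂⟩; 0, ⟨d₁, d₂⟩, 0; iK * ⟨b₁, b₂⟩, 0, ⟨a₁, a₂⟩]).det = 1 →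
    (!![(⟨a₁, a₂⟩ : K9), 0, ⟨b₁, b₂⟩; 0, ⟨d₁, d₂⟩, 0; iK * ⟨b₁, b₂⟩, 0, ⟨a₁, a₂⟩]).transpose *
      (!![(⟨a₁, a₂⟩ : K9), 0, ⟨b₁, b₂⟩; 0, ⟨d₁, d₂⟩, 0; iK * ⟨b₁, b₂⟩, 0, ⟨a₁, a₂⟩]).map
        (fun x => x * x * x) = 1 →
    ∃ k : Fin 8, witU 1 ^ (k : ℕ) =
      !![(⟨a₁, a₂⟩ : K9), 0, ⟨b₁, b₂⟩; 0, ⟨d₁, d₂⟩, 0; iK * ⟨b₁, b₂⟩, 0, ⟨a₁, a₂⟩] := by
  decide +kernel

/-- Matrices commuting with the witness of order `8`. -/
theorem shape {R : Type*} [CommRing R] [IsDomain R] {i : R} (hi : i ≠ 0) (hi1 : i ≠ 1)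
    {M : Matrix (Fin 3) (Fin 3) R}
    (h : M * !![0, 0, 1; 0, i, 0; i, 0, 0] = !![0, 0, 1; 0, i, 0; i, 0, 0] * M) :
    M = !![M 0 0, 0, M 0 2; 0, M 1 1, 0; i * M 0 2, 0, M 0 0] := by
  have e00 := congrFun (congrFun h 0) 0
  have e01 := congrFun (congrFun h 0) 1
  have e02 := congrFun (congrFun h 0) 2
  have e10 := congrFun (congrFun h 1) 0
  have e12 := congrFun (congrFun h 1) 2
  have e21 := congrFun (congrFun h 2) 1
  simp [Matrix.mul_apply, Fin.sum_univ_three] at e00 e01 e02 e10 e12 e21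
  have hi1' : i - 1 ≠ 0 := sub_ne_zero.2 hi1
  have h01 : M 0 1 = 0 := by
    have e21' : M 2 1 = M 0 1 := mul_right_cancel₀ hi (by linear_combination e21)
    have : M 0 1 * (i - 1) = 0 := by linear_combination e01 + e21'
    exact (mul_eq_zero.1 this).resolve_right hi1'
  have h12 : M 1 2 = M 1 0 := mul_right_cancel₀ hi (by linear_combination e10)
  have h10 : M 1 0 = 0 := by
    have : M 1 0 * (i - 1) = 0 := by linear_combination -e12 - i * h12
    exact (mul_eq_zero.1 this).resolve_right hi1'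
  have h21 : M 2 1 = 0 := by
    have : M 2 1 * i = 0 := by linear_combination e21 + i * h01
    exact (mul_eq_zero.1 this).resolve_right hi
  have h20 : M 2 0 = i * M 0 2 := by linear_combination -e00
  have h22 : M 2 2 = M 0 0 := by linear_combination -e02
  ext a b
  fin_cases a <;> fin_cases b <;> simp [h01, h10, h12, h20, h21, h22]

variable {F : Type*} [Field F] [Fintype F]

theorem exists_orderOf_eight (hF : Fintype.card F = 9) :
    ∃ g : Cfsg.PSU 3 F 3, orderOf g = 8 ∧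
      Nat.card (Subgroup.centralizer ({g} : Set (Cfsg.PSU 3 F 3))) = 8 := by
  obtain ⟨φ⟩ := exists_ringEquiv_K9 hF
  haveI : CharP F 3 := by
    obtain ⟨p, hc⟩ := CharP.exists F
    haveI := hc
    obtain ⟨n, hp, hn⟩ := FiniteField.card F p
    rw [hF] at hn
    have : p ∣ 3 := hp.dvd_of_dvd_pow (show p ∣ 3 ^ 2 from (show (3:ℕ) ^ 2 = p ^ (n : ℕ) from hn) ▸ dvd_pow_self p n.ne_zero)
    rwa [(Nat.prime_dvd_prime_iff_eq hp Nat.prime_three).1 this] at hc
  have hF' : Nat.card F = 3 ^ 2 := by rw [Nat.card_eq_fintype_card, hF]; norm_num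
  have hc : Subgroup.center (Cfsg.SU 3 F 3) = ⊥ :=
    Subgroup.eq_bot_of_card_eq _ (by rw [CfsgLib.Classical.card_center_SU hF' (by norm_num)]; norm_num)
  let e : Cfsg.PSU 3 F 3 ≃* Cfsg.SU 3 F 3 :=
    (QuotientGroup.quotientMulEquivOfEq hc).trans QuotientGroup.quotientBot
  obtain ⟨hd, horth, h1, h2⟩ := witU_spec 1
  let g₁ : Matrix.SpecialLinearGroup (Fin 3) F := ⟨(witU 1).map φ, by
    rw [← RingEquiv.coe_toRingHom, ← RingHom.mapMatrix_apply, ← RingHom.map_det, hd, map_one]⟩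
  have hgU : g₁ ∈ Cfsg.SU 3 F 3 := by
    intro u v
    show Cfsg.hermForm 3 F 3 ((witU 1).map φ *ᵥ u) ((witU 1).map φ *ᵥ v) = _
    rw [hermForm_mulVec]
    have e : ((witU 1).map φ).transpose * ((witU 1).map φ).map (fun x => x * x * x) = 1 := by
      have h0 := congrArg (fun X => (φ : K9 →+* F).mapMatrix X) horth
      simp only [map_mul, map_one] at h0
      rw [← h0]
      congr 1
      ext p r; simp
    rw [e, Matrix.one_mulVec]; rfl
  let g : Cfsg.SU 3 F 3 := ⟨g₁, hgU⟩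
  have hpow : ∀ k, ((g₁ ^ k).1 : Matrix (Fin 3) (Fin 3) F) = (φ : K9 →+* F).mapMatrix (witU 1 ^ k) :=
    fun k => by rw [Matrix.SpecialLinearGroup.coe_pow, map_pow]; rfl
  have hord : orderOf g = 8 := by
    rw [Subgroup.orderOf_mk, orderOf_eq_iff (by norm_num)]
    refine ⟨Subtype.ext (by rw [hpow]; rw [show witU 1 ^ 8 = 1 from h1, map_one]; rfl),
      fun k hk hk0 e => h2 k hk hk0 ?_⟩
    have e1 := congrArg Subtype.val e
    rw [hpow] at e1
    exact Matrix.map_injective φ.injective (e1.trans (Matrix.map_one φ (map_zero φ) (map_one φ)).symm)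
  refine ⟨e.symm g, by rw [e.symm.orderOf_eq, hord], ?_⟩
  have hz : Subgroup.centralizer ({e.symm g} : Set (Cfsg.PSU 3 F 3)) = Subgroup.zpowers (e.symm g) := by
    refine le_antisymm (fun y hy => ?_) ((Subgroup.zpowers_le).2 (Subgroup.mem_centralizer_singleton_iff.2 rfl))
    have hy' : e y * g = g * e y := by
      have := congrArg e (Subgroup.mem_centralizer_singleton_iff.1 hy)
      simpa using this
    let M : Matrix (Fin 3) (Fin 3) F := (e y).1.1
    let M0 : Matrix (Fin 3) (Fin 3) K9 := M.map φ.symm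
    have hM0 : M0.map φ = M := by ext a b; simp [M0]
    have hc0 : M0 * witU 1 = witU 1 * M0 := by
      apply Matrix.map_injective φ.injective
      have h3 := congrArg (fun A : Cfsg.SU 3 F 3 => (A.1.1 : Matrix (Fin 3) (Fin 3) F)) hy'
      change M * (witU 1).map φ = (witU 1).map φ * M at h3
      rw [← hM0] at h3
      show (φ : K9 →+* F).mapMatrix (M0 * witU 1) = (φ : K9 →+* F).mapMatrix (witU 1 * M0)
      rw [map_mul, map_mul]
      exact h3
    haveI : Fact (∀ r : ZMod 3, r ^ 2 ≠ (-1 : ZMod 3) + 0 * r) := ⟨by decide⟩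
    have hsh := shape (M := M0) (i := iK) (by decide) (by decide) hc0
    have hd0 : M0.det = 1 := φ.injective (by
      rw [← RingEquiv.coe_toRingHom, RingHom.map_det, map_one, RingHom.mapMatrix_apply]
      show (M0.map φ).det = 1
      rw [hM0]
      exact (e y).1.2)
    have horth0 : M0.transpose * M0.map (fun x => x * x * x) = 1 := by
      have horthM : M.transpose * M.map (fun x => x * x * x) = 1 := by
        ext i j
        have h := (e y).2 (Pi.single i 1) (Pi.single j 1)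
        change Cfsg.hermForm 3 F 3 (M *ᵥ Pi.single i 1) (M *ᵥ Pi.single j 1) = _ at h
        rw [hermForm_mulVec] at h
        have e' : (fun k => (Pi.single j 1 : Fin 3 → F) k ^ 3) = Pi.single j 1 := by
          funext k
          rcases eq_or_ne k j with rfl | hk
          · simp
          · simp [hk]
        rw [e', Matrix.mulVec_single_one, single_one_dotProduct] at h
        refine h.trans ?_
        show ∑ k, (Pi.single i 1 : Fin 3 → F) k * (Pi.single j 1 : Fin 3 → F) k ^ 3 = _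
        rw [Finset.sum_eq_single i (fun k _ hk => by simp [hk]) (by simp)]
        rcases eq_or_ne i j with rfl | hij
        · simp
        · simp [hij]
      apply Matrix.map_injective φ.injective
      show (φ : K9 →+* F).mapMatrix _ = (φ : K9 →+* F).mapMatrix 1
      rw [map_mul, map_one, ← horthM]
      congr 1
      · ext a b; simp [M0]
      · ext a b; simp [M0]
    generalize hA : M0 0 0 = A at hsh
    generalize hB : M0 0 2 = B at hsh
    generalize hD : M0 1 1 = D at hsh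
    obtain ⟨a₁, a₂⟩ := A
    obtain ⟨b₁, b₂⟩ := B
    obtain ⟨d₁, d₂⟩ := D
    rw [hsh] at hd0 horth0
    obtain ⟨k, hk⟩ := comm_check a₁ a₂ b₁ b₂ d₁ d₂ hd0 horth0
    refine ⟨(k : ℕ), e.injective ?_⟩
    show e (e.symm g ^ ((k : ℕ) : ℤ)) = e y
    rw [map_zpow, e.apply_symm_apply, zpow_natCast]
    refine Subtype.ext (Subtype.ext ?_)
    rw [SubgroupClass.coe_pow, hpow, hk, ← hsh]
    exact hM0
  rw [hz, Nat.card_zpowers, e.symm.orderOf_eq, hord]

end CfsgLib.CharsMore.U33
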